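import Groth.Prelude.Def_W4c5normfunctorschNorm
import Mathlib.RingTheory.Norm.Basic

/-!
# Change of rings for tensor products with test algebras
-/

set_option autoImplicit false

universe u

open scoped TensorProduct

namespace Groth.Agent.MiscTwoH99.NormBC

variable {R : Type u} [CommRing R] {Q : Type u} [CommRing Q] [Algebra R Q]
  {X : Type u} [AddCommGroup X] [Module R X]
  {Y : Type u} [AddCommGroup Y] [Module R Y] [Module Q Y] [IsScalarTower R Q Y]

section

variable (Q) (g : X →ₗ[R] Y) (P : Type u) [CommSemiring P] [Algebra R P] [Algebra Q P] [IsScalarTower R Q P]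

/-- `p ⊗ x ↦ p ⊗ g x`, linear over the test algebra. -/
noncomputable def bc : P ⊗[R] X →ₗ[P] P ⊗[Q] Y :=
  LinearMap.liftBaseChange P
    { toFun := fun x => (1 : P) ⊗ₜ[Q] g x
      map_add' := fun a b => by rw [map_add, TensorProduct.tmul_add]
      map_smul' := fun r x => by
        rw [map_smul, RingHom.id_apply, ← algebraMap_smul Q r (g x), TensorProduct.tmul_smul,
          algebraMap_smul Q r ((1 : P) ⊗ₜ[Q] g x)] }

@[simp] theorem bc_tmul (p : P) (x : X) : bc Q g P (p ⊗ₜ[R] x) = p ⊗ₜ[Q] g x := by
  simp [bc, LinearMap.liftBaseChange_tmul, TensorProduct.smul_tmul']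

variable {P} {P' : Type u} [CommSemiring P'] [Algebra R P'] [Algebra Q P'] [IsScalarTower R Q P']

theorem bc_natural (ψ : P →ₐ[Q] P') (z : P ⊗[R] X) :
    bc Q g P' ((ψ.restrictScalars R).toLinearMap.rTensor X z) = ψ.toLinearMap.rTensor Y (bc Q g P z) := by
  induction z with
  | zero => simp
  | tmul p x => simp
  | add a b ha hb => simp only [map_add, ha, hb]

variable {Z : Type u} [AddCommGroup Z] [Module R Z] [Module Q Z] [IsScalarTower R Q Z]

theorem bc_comp (φ : Y →ₗ[Q] Z) (z : P ⊗[R] X) :
    bc Q ((φ.restrictScalars R).comp g) P z = φ.lTensor P (bc Q g P z) := by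
  induction z with
  | zero => simp
  | tmul p x => simp
  | add a b ha hb => simp only [map_add, ha, hb]

variable (P) in
/-- `bc` is bijective for the structure map of a scalar extension. -/
theorem bc_bijective (hg : IsBaseChange Q g) : Function.Bijective (bc Q g P) := by
  let e : P ⊗[R] X ≃ₗ[P] P ⊗[Q] Y :=
    (TensorProduct.AlgebraTensorModule.cancelBaseChange R Q P P X).symm.trans
      (TensorProduct.AlgebraTensorModule.congr (LinearEquiv.refl P P) hg.equiv)
  have he : bc Q g P = e.toLinearMap := by
    refine LinearMap.ext fun z => ?_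
    induction z with
    | zero => simp
    | tmul p x => simp [e, hg.equiv_tmul]
    | add a b ha hb => simp only [map_add, ha, hb]
  rw [he]
  exact e.bijective

theorem bcAlong_eq (P : Type u) [CommRing P] [Algebra R P] [Algebra Q P] [IsScalarTower R Q P] (z : P ⊗[R] X) :
    PolLaw.bcAlong g P z = bc Q g P z := by
  induction z with
  | zero => simp
  | tmul p x => simp [PolLaw.bcAlong, LinearMap.liftBaseChange_tmul]
  | add a b ha hb => simp only [map_add, ha, hb]

end

section Kappa

variable {E : Type u} [AddCommGroup E] [Module R E] [Module Q E] [IsScalarTower R Q E]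
  (S : Type u) [CommSemiring S] [Algebra R S]

variable (E) in
/-- `(q ⊗ s) ⊗ e ↦ s ⊗ q • e`. -/
noncomputable def kap : (Q ⊗[R] S) ⊗[Q] E →+ S ⊗[R] E :=
  (TensorProduct.comm R E S).toLinearMap.toAddMonoidHom.comp
    ((TensorProduct.AlgebraTensorModule.cancelBaseChange R Q Q E S).toLinearMap.toAddMonoidHom.comp
      (TensorProduct.comm Q (Q ⊗[R] S) E).toLinearMap.toAddMonoidHom)

@[simp] theorem kap_tmul (q : Q) (s : S) (e : E) : kap E S ((q ⊗ₜ[R] s) ⊗ₜ[Q] e) = s ⊗ₜ[R] (q • e) := by
  simp [kap, TensorProduct.smul_tmul']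

theorem kap_smul (c : S) (z : (Q ⊗[R] S) ⊗[Q] E) :
    kap E S (((1 : Q) ⊗ₜ[R] c) • z) = c • kap E S z := by
  induction z with
  | zero => simp
  | tmul w e =>
    induction w with
    | zero => simp
    | tmul q s => simp [TensorProduct.smul_tmul']
    | add a b ha hb => simp only [TensorProduct.add_tmul, smul_add, map_add, ha, hb]
  | add a b ha hb => simp only [smul_add, map_add, ha, hb]

theorem kap_lTensor {E' : Type u} [AddCommGroup E'] [Module R E'] [Module Q E'] [IsScalarTower R Q E']
    (φ : E →ₗ[Q] E') (z : (Q ⊗[R] S) ⊗[Q] E) :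
    kap E' S (φ.lTensor (Q ⊗[R] S) z) = (φ.restrictScalars R).lTensor S (kap E S z) := by
  induction z with
  | zero => simp
  | tmul w e =>
    induction w with
    | zero => simp
    | tmul q s => simp
    | add a b ha hb => simp only [TensorProduct.add_tmul, map_add, ha, hb]
  | add a b ha hb => simp only [map_add, ha, hb]

variable {S} {S' : Type u} [CommSemiring S'] [Algebra R S']

theorem kap_natural (φ : S →ₐ[R] S') (z : (Q ⊗[R] S) ⊗[Q] E) :
    φ.toLinearMap.rTensor E (kap E S z) =
      kap E S' ((Algebra.TensorProduct.map (AlgHom.id Q Q) φ).toLinearMap.rTensor E z) := by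
  induction z with
  | zero => simp
  | tmul w e =>
    induction w with
    | zero => simp
    | tmul q s => simp
    | add a b ha hb => simp only [TensorProduct.add_tmul, map_add, ha, hb]
  | add a b ha hb => simp only [map_add, ha, hb]

variable (S) in
/-- `s ↦ 1 ⊗ s` into the algebra of the extended test ring. -/
noncomputable def jmap : S →ₐ[R] Q ⊗[R] S := Algebra.TensorProduct.includeRight

theorem kap_bc {X : Type u} [AddCommGroup X] [Module R X] (g : X →ₗ[R] E) (z : S ⊗[R] X) :
    kap E S (bc Q g (Q ⊗[R] S) ((jmap (Q := Q) S).toLinearMap.rTensor X z)) = g.lTensor S z := by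
  induction z with
  | zero => simp
  | tmul s x => simp [jmap]
  | add a b ha hb => simp only [map_add, ha, hb]

/-- Folding back along multiplication. -/
theorem bc_id_kap (P : Type u) [CommSemiring P] [Algebra R P] [Algebra Q P] [IsScalarTower R Q P]
    (z : (Q ⊗[R] P) ⊗[Q] E) :
    bc Q (LinearMap.id : E →ₗ[R] E) P (kap E P z) =
      (Algebra.TensorProduct.lift (Algebra.ofId Q P) (AlgHom.id R P) fun _ _ => Commute.all _ _).toLinearMap.rTensor E z := by
  induction z with
  | zero => simp
  | tmul w e =>
    induction w with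
    | zero => simp
    | tmul q s =>
      rw [kap_tmul, bc_tmul, LinearMap.id_apply, LinearMap.rTensor_tmul, AlgHom.toLinearMap_apply,
        Algebra.TensorProduct.lift_tmul, ← TensorProduct.smul_tmul, Algebra.ofId_apply, AlgHom.id_apply,
        Algebra.smul_def]
    | add a b ha hb => simp only [TensorProduct.add_tmul, map_add, ha, hb]
  | add a b ha hb => simp only [map_add, ha, hb]

end Kappa

end Groth.Agent.MiscTwoH99.NormBC
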