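import Groth.Agent.MiscTwoH99.NormBC.Bc

/-!
# Base change of a universal normic pair
-/

set_option autoImplicit false

universe u

open scoped TensorProduct

namespace Groth.Agent.MiscTwoH99.NormBC

/-- A commutative semiring under a commutative ring is a ring. -/
noncomputable abbrev toCommRing (A : Type u) [CommRing A] (P : Type u) [inst : CommSemiring P] [Algebra A P] :
    CommRing P :=
  { Algebra.semiringToRing A with mul_comm := inst.mul_comm }

variable {R : Type u} [CommRing R] {R' : Type u} [CommRing R'] [Algebra R R']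
  {Q : Type u} [CommRing Q] [Algebra R Q]
  {Q' : Type u} [CommRing Q'] [Algebra R Q'] [Algebra Q Q'] [Algebra R' Q']
  [IsScalarTower R Q Q'] [IsScalarTower R R' Q']

section Norm

variable (P : Type u) [CommRing P] [Algebra R P] [Algebra Q P] [IsScalarTower R Q P]

/-- `p ⊗ r' ↦ p ⊗ r'`. -/
noncomputable def phiAlg : P ⊗[R] R' →ₐ[P] P ⊗[Q] Q' :=
  Algebra.TensorProduct.lift (Algebra.ofId P (P ⊗[Q] Q'))
    (((Algebra.TensorProduct.includeRight : Q' →ₐ[Q] P ⊗[Q] Q').restrictScalars R).comp (IsScalarTower.toAlgHom R R' Q'))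
    fun _ _ => Commute.all _ _

theorem phiAlg_eq (x : P ⊗[R] R') :
    phiAlg (Q := Q) (Q' := Q') P x = bc Q (IsScalarTower.toAlgHom R R' Q').toLinearMap P x := by
  induction x with
  | zero => simp
  | tmul p r => simp [phiAlg, Algebra.TensorProduct.tmul_mul_tmul]
  | add a b ha hb => simp only [map_add, ha, hb]

theorem phiAlg_bijective [h : Algebra.IsPushout R R' Q Q'] :
    Function.Bijective (phiAlg (R := R) (R' := R') (Q := Q) (Q' := Q') P) := by
  have h1 := (bc_bijective Q (IsScalarTower.toAlgHom R R' Q').toLinearMap P h.symm.out)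
  rwa [show (phiAlg (R := R) (R' := R') (Q := Q) (Q' := Q') P : P ⊗[R] R' → P ⊗[Q] Q') =
    bc Q (IsScalarTower.toAlgHom R R' Q').toLinearMap P from funext (phiAlg_eq P)]

theorem norm_phiAlg [Algebra.IsPushout R R' Q Q'] (x : P ⊗[R] R') :
    Algebra.norm P (phiAlg (Q := Q) (Q' := Q') P x) = Algebra.norm P x :=
  (Algebra.norm_eq_of_algEquiv (AlgEquiv.ofBijective _ (phiAlg_bijective (R := R) (R' := R') (Q := Q) (Q' := Q') P)) x)

variable {M' : Type u} [AddCommGroup M'] [Module R M'] [Module R' M'] [IsScalarTower R R' M']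
  {M'' : Type u} [AddCommGroup M''] [Module R M''] [Module R' M''] [Module Q M''] [Module Q' M'']
  [IsScalarTower R R' M''] [IsScalarTower R Q M''] [IsScalarTower R' Q' M''] [IsScalarTower Q Q' M'']

theorem bc_actEnd (f : M' →ₗ[R'] M'') (x : P ⊗[R] R') (m : P ⊗[R] M') :
    bc Q (f.restrictScalars R) P (PolLaw.actEnd M' P x m) =
      PolLaw.actEnd M'' P (phiAlg (Q := Q) (Q' := Q') P x) (bc Q (f.restrictScalars R) P m) := by
  induction x with
  | zero => simp
  | tmul p r =>
    induction m with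
    | zero => simp
    | tmul t y =>
      simp [phiAlg_eq]
    | add a b ha hb => simp only [map_add, ha, hb]
  | add a b ha hb => simp only [map_add, LinearMap.add_apply, ha, hb]

end Norm

variable {M' : Type u} [AddCommGroup M'] [Module R M'] [Module R' M'] [IsScalarTower R R' M']
  {M'' : Type u} [AddCommGroup M''] [Module R M''] [Module R' M''] [Module Q M''] [Module Q' M'']
  [IsScalarTower R R' M''] [IsScalarTower R Q M''] [IsScalarTower R' Q' M''] [IsScalarTower Q Q' M'']
  (f : M' →ₗ[R'] M'')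

theorem isBaseChange_restrict [h : Algebra.IsPushout R R' Q Q'] (hf : IsBaseChange Q' f) :
    IsBaseChange Q (f.restrictScalars R) := by
  haveI : Algebra.IsPushout R Q R' Q' := h.symm
  refine IsBaseChange.of_equiv
    ((Algebra.IsPushout.cancelBaseChange R Q R' Q' M').symm.trans (hf.equiv.restrictScalars Q)) fun x => ?_
  simp [hf.equiv_tmul]

section Res

variable {E : Type u} [AddCommGroup E] [Module R E] [Module Q E] [IsScalarTower R Q E]

/-- Restriction of a law over `Q` to a law over `R`. -/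
noncomputable def resLaw (μ : M'' →ₚₗ[Q] E) : M' →ₚₗ[R] E where
  toFun' S _ _ := fun x =>
    kap E S (μ.toFun' (Q ⊗[R] S) (bc Q (f.restrictScalars R) (Q ⊗[R] S) ((jmap (Q := Q) S).toLinearMap.rTensor M' x)))
  isCompat' {S} _ _ {S'} _ _ φ := by
    funext x
    simp only [Function.comp_apply]
    rw [kap_natural, μ.isCompat_apply' (Algebra.TensorProduct.map (AlgHom.id Q Q) φ), ← bc_natural,
      ← LinearMap.comp_apply, ← LinearMap.rTensor_comp, ← LinearMap.comp_apply (LinearMap.rTensor M' _),
      ← LinearMap.rTensor_comp]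
    congr 4

theorem actEnd_natural {S S' : Type u} [CommSemiring S] [Algebra R S] [CommSemiring S'] [Algebra R S'] (φ : S →ₐ[R] S')
    (x : S ⊗[R] R') (m : S ⊗[R] M') :
    φ.toLinearMap.rTensor M' (PolLaw.actEnd M' S x m) =
      PolLaw.actEnd M' S' (Algebra.TensorProduct.map φ (AlgHom.id R R') x) (φ.toLinearMap.rTensor M' m) :=
  PolLaw.rTensor_actEnd M' φ x m

variable [Module.Free R R'] [Module.Finite R R']

theorem norm_map {S S' : Type u} [CommRing S] [Algebra R S] [CommRing S'] [Algebra R S'] (φ : S →ₐ[R] S')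
    (x : S ⊗[R] R') :
    Algebra.norm S' (Algebra.TensorProduct.map φ (AlgHom.id R R') x) = φ (Algebra.norm S x) := by
  rw [← PolLaw.detAct_self, ← PolLaw.detAct_self, PolLaw.detAct_map]

theorem isNormic_resLaw [Algebra.IsPushout R R' Q Q'] {μ : M'' →ₚₗ[Q] E} (hμ : PolLaw.IsNormic Q' μ) :
    PolLaw.IsNormic R' (resLaw (R := R) f μ) := by
  intro S _ _ x m
  show kap E S (μ.toFun' (Q ⊗[R] S) (bc Q (f.restrictScalars R) (Q ⊗[R] S)
    ((jmap (Q := Q) S).toLinearMap.rTensor M' (PolLaw.actEnd M' S x m)))) = _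
  rw [actEnd_natural, bc_actEnd (Q' := Q'), hμ (Q ⊗[R] S), norm_phiAlg, norm_map]
  exact kap_smul S _ _

theorem compat_law (μ : M'' →ₚₗ[Q] E) {N : Type u} [AddCommGroup N] [Module R N] (ν : M' →ₚₗ[R] N) (u : N →ₗ[R] E)
    (hu : PolLaw.postcomp u ν = resLaw f μ) (P : Type u) [CommSemiring P] [Algebra R P] [Algebra Q P]
    [IsScalarTower R Q P] (x : P ⊗[R] M') :
    μ.toFun' P (bc Q (f.restrictScalars R) P x) = bc Q u P (ν.toFun' P x) := by
  let m : Q ⊗[R] P →ₐ[Q] P :=
    Algebra.TensorProduct.lift (Algebra.ofId Q P) (AlgHom.id R P) fun _ _ => Commute.all _ _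
  have h1 : u.lTensor P (ν.toFun' P x) = (resLaw f μ).toFun' P x := by
    rw [← hu]; rfl
  calc μ.toFun' P (bc Q (f.restrictScalars R) P x)
      = μ.toFun' P (m.toLinearMap.rTensor M'' (bc Q (f.restrictScalars R) (Q ⊗[R] P)
          ((jmap (Q := Q) P).toLinearMap.rTensor M' x))) := by
        rw [← bc_natural, ← LinearMap.comp_apply (LinearMap.rTensor M' _), ← LinearMap.rTensor_comp]
        congr 2
        rw [show (m.restrictScalars R).toLinearMap ∘ₗ (jmap (Q := Q) P).toLinearMap = LinearMap.id from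
          LinearMap.ext fun p => by simp [m, jmap], LinearMap.rTensor_id, LinearMap.id_apply]
    _ = bc Q (LinearMap.id : E →ₗ[R] E) P ((resLaw f μ).toFun' P x) := by
        rw [← μ.isCompat_apply', resLaw, bc_id_kap]
    _ = bc Q u P (ν.toFun' P x) := by
        rw [← h1]
        generalize ν.toFun' P x = z
        induction z with
        | zero => simp
        | tmul p n => simp
        | add a b ha hb => simp only [map_add, ha, hb]

end Res

section Ext

variable {N : Type u} [AddCommGroup N] [Module R N] (ν : M' →ₚₗ[R] N)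
  {E : Type u} [AddCommGroup E] [Module R E] [Module Q E] [IsScalarTower R Q E]
  (hf : IsBaseChange Q (f.restrictScalars R))

/-- The value of the extended law. -/
noncomputable def extFun (g : N →ₗ[R] E) (P : Type u) [CommSemiring P] [Algebra R P] [Algebra Q P]
    [IsScalarTower R Q P] (y : P ⊗[Q] M'') : P ⊗[Q] E :=
  bc Q g P (ν.toFun' P ((Equiv.ofBijective _ (bc_bijective Q (f.restrictScalars R) P hf)).symm y))

theorem extFun_bc (g : N →ₗ[R] E) (P : Type u) [CommSemiring P] [Algebra R P] [Algebra Q P] [IsScalarTower R Q P]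
    (x : P ⊗[R] M') :
    extFun f ν hf g P (bc Q (f.restrictScalars R) P x) = bc Q g P (ν.toFun' P x) := by
  rw [extFun, Equiv.ofBijective_symm_apply_apply]

/-- Extension of a law over `R` to a law over `Q`. -/
noncomputable def extLaw (g : N →ₗ[R] E) : M'' →ₚₗ[Q] E where
  toFun' P _ _ :=
    letI : Algebra R P := Algebra.compHom P (algebraMap R Q)
    haveI : IsScalarTower R Q P := IsScalarTower.of_algebraMap_eq fun _ => rfl
    extFun f ν hf g P
  isCompat' {P} _ _ {P'} _ _ φ := by
    letI : Algebra R P := Algebra.compHom P (algebraMap R Q)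
    haveI : IsScalarTower R Q P := IsScalarTower.of_algebraMap_eq fun _ => rfl
    letI : Algebra R P' := Algebra.compHom P' (algebraMap R Q)
    haveI : IsScalarTower R Q P' := IsScalarTower.of_algebraMap_eq fun _ => rfl
    funext y
    obtain ⟨x, rfl⟩ := (bc_bijective Q (f.restrictScalars R) P hf).2 y
    simp only [Function.comp_apply]
    rw [← bc_natural, extFun_bc, extFun_bc, ← bc_natural, ν.isCompat_apply']

theorem extLaw_bc (g : N →ₗ[R] E) (P : Type u) [CommSemiring P] [Algebra Q P] [instR : Algebra R P]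
    [IsScalarTower R Q P] (x : P ⊗[R] M') :
    (extLaw f ν hf g).toFun' P (bc Q (f.restrictScalars R) P x) = bc Q g P (ν.toFun' P x) := by
  have : instR = Algebra.compHom P (algebraMap R Q) :=
    Algebra.algebra_ext _ _ fun r => IsScalarTower.algebraMap_apply R Q P r
  subst this
  letI : Algebra R P := Algebra.compHom P (algebraMap R Q)
  exact extFun_bc f ν hf g P x

theorem isNormic_extLaw [Algebra.IsPushout R R' Q Q'] (g : N →ₗ[R] E) (hν : PolLaw.IsNormic R' ν) :
    PolLaw.IsNormic Q' (extLaw f ν hf g) := by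
  intro P _ _ y m
  letI : Algebra R P := Algebra.compHom P (algebraMap R Q)
  haveI : IsScalarTower R Q P := IsScalarTower.of_algebraMap_eq fun _ => rfl
  obtain ⟨m, rfl⟩ := (bc_bijective Q (f.restrictScalars R) P hf).2 m
  obtain ⟨x, rfl⟩ := (phiAlg_bijective (R := R) (R' := R') (Q := Q) (Q' := Q') P).2 y
  rw [← bc_actEnd, extLaw_bc, extLaw_bc, hν P x m, norm_phiAlg, map_smul]

end Ext

theorem main [Algebra.IsPushout R R' Q Q'] [Module.Free R R'] [Module.Finite R R'] (hf : IsBaseChange Q' f)
    {N : Type u} [AddCommGroup N] [Module R N] (ν : M' →ₚₗ[R] N) (hν : PolLaw.IsUnivNormic R' ν)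
    {N'' : Type u} [AddCommGroup N''] [Module R N''] [Module Q N''] [IsScalarTower R Q N'']
    (ν'' : M'' →ₚₗ[Q] N'') (hν'' : PolLaw.IsUnivNormic Q' ν'') :
    ∃ u : N →ₗ[R] N'',
      (∀ (P : Type u) [CommRing P] [Algebra R P] [Algebra Q P] [IsScalarTower R Q P] (m : P ⊗[R] M'),
          ν''.toFun' P (PolLaw.bcAlong (f.restrictScalars R) P m) = PolLaw.bcAlong u P (ν.toFun' P m)) ∧
      IsBaseChange Q u := by
  have hf' := isBaseChange_restrict (R := R) (Q := Q) f hf
  obtain ⟨u, hu, -⟩ := hν.2 N'' (resLaw f ν'') (isNormic_resLaw (R := R) f hν''.1)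
  refine ⟨u, fun P _ _ _ _ m => by rw [bcAlong_eq, bcAlong_eq]; exact compat_law f ν'' ν u hu P m, ?_⟩
  refine IsBaseChange.of_lift_unique _ fun E _ _ _ _ g => ?_
  letI : AddCommGroup E := Module.addCommMonoidToAddCommGroup Q
  obtain ⟨φ, hφ, huniq⟩ := hν''.2 E (extLaw f ν hf' g) (isNormic_extLaw (Q' := Q') f ν hf' g hν.1)
  refine ⟨φ, ?_, fun φ' hφ' => huniq φ' ?_⟩
  · obtain ⟨g₀, -, hg⟩ := hν.2 E (resLaw f (extLaw f ν hf' g)) (isNormic_resLaw (R := R) f (isNormic_extLaw (Q' := Q') f ν hf' g hν.1))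
    have hg1 : PolLaw.postcomp g ν = resLaw f (extLaw f ν hf' g) := by
      refine PolynomialLaw.ext (funext fun S => funext fun _ => funext fun _ => funext fun x => ?_)
      show g.lTensor S (ν.toFun' S x) = kap E S ((extLaw f ν hf' g).toFun' (Q ⊗[R] S)
        (bc Q (f.restrictScalars R) (Q ⊗[R] S) ((jmap (Q := Q) S).toLinearMap.rTensor M' x)))
      rw [extLaw_bc, ← ν.isCompat_apply', kap_bc]
    have hg2 : PolLaw.postcomp ((φ.restrictScalars R).comp u) ν = resLaw f (extLaw f ν hf' g) := by
      refine PolynomialLaw.ext (funext fun S => funext fun _ => funext fun _ => funext fun x => ?_)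
      have h1 : u.lTensor S (ν.toFun' S x) = (resLaw f ν'').toFun' S x := by rw [← hu]; rfl
      show ((φ.restrictScalars R).comp u).lTensor S (ν.toFun' S x) = _
      rw [LinearMap.lTensor_comp_apply, h1, ← hφ]
      exact (kap_lTensor S φ _).symm
    exact (hg _ hg2).trans (hg _ hg1).symm
  · refine PolynomialLaw.ext (funext fun P => funext fun _ => funext fun _ => funext fun y => ?_)
    letI : Algebra R P := Algebra.compHom P (algebraMap R Q)
    haveI : IsScalarTower R Q P := IsScalarTower.of_algebraMap_eq fun _ => rfl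
    obtain ⟨x, rfl⟩ := (bc_bijective Q (f.restrictScalars R) P hf').2 y
    show φ'.lTensor P (ν''.toFun' P _) = _
    rw [extLaw_bc, compat_law f ν'' ν u hu, ← bc_comp, hφ']

end Groth.Agent.MiscTwoH99.NormBC
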